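import Mathlib

/-!
# Automorphisms of a group with commutators in a central subgroup

`g` normalises `P`, whose commutators lie in the central subgroup `S`, and `P ∩ Z(P) ⊆ S`.
-/

namespace Cfsg.Agent.ExtraspecialEigen

open scoped commutatorElement

variable {G : Type*} [Group G] {S P : Subgroup G} (hSc : ∀ s ∈ S, ∀ x : G, Commute s x)

include hSc in
theorem comm_mul_left (hP : ∀ a ∈ P, ∀ b ∈ P, ⁅a, b⁆ ∈ S) {a b v : G} (hb : b ∈ P) (hv : v ∈ P) :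
    ⁅a * b, v⁆ = ⁅a, v⁆ * ⁅b, v⁆ := by
  have h := (hSc _ (hP b hb v hv) a).eq
  have e : ⁅a * b, v⁆ = a * ⁅b, v⁆ * a⁻¹ * ⁅a, v⁆ := by
    simp only [commutatorElement_def]; group
  rw [e, ← h, mul_inv_cancel_right]
  exact (hSc _ (hP b hb v hv) _).eq

include hSc in
theorem comm_mul_right (hP : ∀ a ∈ P, ∀ b ∈ P, ⁅a, b⁆ ∈ S) {u a b : G} (hu : u ∈ P) (hb : b ∈ P) :
    ⁅u, a * b⁆ = ⁅u, a⁆ * ⁅u, b⁆ := by
  have h := (hSc _ (hP u hu b hb) a).eq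
  have e : ⁅u, a * b⁆ = ⁅u, a⁆ * (a * ⁅u, b⁆ * a⁻¹) := by
    simp only [commutatorElement_def]; group
  rw [e, ← h, mul_inv_cancel_right]

include hSc in
theorem comm_inv_right (hP : ∀ a ∈ P, ∀ b ∈ P, ⁅a, b⁆ ∈ S) {u a : G} (hu : u ∈ P) (ha : a ∈ P) :
    ⁅u, a⁻¹⁆ = ⁅u, a⁆⁻¹ := by
  have h := comm_mul_right hSc hP (a := a) hu (inv_mem ha)
  rw [mul_inv_cancel, commutatorElement_one_right] at h
  exact eq_inv_of_mul_eq_one_right h.symm

include hSc in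
theorem comm_scalar_mul_left {s : G} (hs : s ∈ S) (u v : G) : ⁅s * u, v⁆ = ⁅u, v⁆ := by
  have e : ⁅s * u, v⁆ = s * ⁅u, v⁆ * s⁻¹ * ⁅s, v⁆ := by
    simp only [commutatorElement_def]; group
  rw [e, commutatorElement_eq_one_iff_commute.mpr (hSc s hs v), mul_one, (hSc s hs _).eq,
    mul_inv_cancel_right]

include hSc in
theorem comm_pow_left (hP : ∀ a ∈ P, ∀ b ∈ P, ⁅a, b⁆ ∈ S) {u v : G} (hu : u ∈ P) (hv : v ∈ P) (k : ℕ) :
    ⁅u ^ k, v⁆ = ⁅u, v⁆ ^ k := by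
  induction k with
  | zero => simp
  | succ k ih => rw [pow_succ, comm_mul_left hSc hP hu hv, ih, pow_succ]

include hSc in
theorem conj_comm {g : G} {u v : G} (h : ⁅u, v⁆ ∈ S) :
    ⁅g * u * g⁻¹, g * v * g⁻¹⁆ = ⁅u, v⁆ := by
  have e : ⁅g * u * g⁻¹, g * v * g⁻¹⁆ = g * ⁅u, v⁆ * g⁻¹ := by
    simp only [commutatorElement_def]; group
  rw [e, ← (hSc _ h g).eq, mul_inv_cancel_right]

variable (hP : ∀ a ∈ P, ∀ b ∈ P, ⁅a, b⁆ ∈ S) (hnd : ∀ a ∈ P, (∀ b ∈ P, ⁅b, a⁆ = 1) → a ∈ S)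

include hSc hP hnd in
/-- If every element moved by conjugation by `g` to itself times an element of `S` commutes with `g`, and
every commutator `[g, x]` commutes with its conjugate by `g`, then some non-scalar commutator `[g, x]`
commutes with `g`. -/
theorem exists_fixed_commutator {g : G} (hg : ∀ a, a ∈ P ↔ g * a * g⁻¹ ∈ P)
    {m : ℕ} (hgm : g ^ (2 * m + 1) = 1)
    (hfix : ∀ a ∈ P, ⁅g, a⁆ ∈ S → Commute g a)
    (hQ : ∀ a ∈ P, Commute (g * ⁅g, a⁆ * g⁻¹) ⁅g, a⁆)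
    {x : G} (hx : x ∈ P) (hxS : ⁅g, x⁆ ∉ S) :
    ∃ a ∈ P, ⁅g, a⁆ ∉ S ∧ Commute g ⁅g, a⁆ := by
  have hT : ∀ a ∈ P, g * a * g⁻¹ ∈ P := fun a ha => (hg a).mp ha
  have hT' : ∀ a ∈ P, g⁻¹ * a * g ∈ P := fun a ha => (hg _).mpr (by
    rwa [show g * (g⁻¹ * a * g) * g⁻¹ = a by group])
  have hD : ∀ a ∈ P, ⁅g, a⁆ ∈ P := fun a ha => by
    rw [commutatorElement_def]
    exact P.mul_mem (hT a ha) (P.inv_mem ha)
  by_contra hcon
  push Not at hcon
  -- the candidate `w`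
  set b := ⁅g, x⁆ with hb
  have hbP : b ∈ P := hD x hx
  set w := (g * b * g⁻¹) * (g⁻¹ * b * g)⁻¹ with hw
  have hwP : w ∈ P := P.mul_mem (hT b hbP) (P.inv_mem (hT' b hbP))
  -- polarise the hypothesis `hQ`
  have horth : ∀ a ∈ P, ⁅⁅g, a⁆, w⁆ = 1 := by
    intro a ha
    set d := ⁅g, a⁆ with hd
    have hdP : d ∈ P := hD a ha
    have hsum : ⁅g, a * x⁆ = ⁅a, b⁆ * (d * b) := by
      have e : ⁅g, a * x⁆ = d * (a * b * a⁻¹) := by
        simp only [hd, hb, commutatorElement_def]; group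
      have e2 : a * b * a⁻¹ = ⁅a, b⁆ * b := by simp only [commutatorElement_def]; group
      rw [e, e2, ← mul_assoc, ← mul_assoc, (hSc _ (hP a ha b hbP) d).eq]
    have hS := hP a ha b hbP
    have h1 : ⁅g * (⁅a, b⁆ * (d * b)) * g⁻¹, ⁅a, b⁆ * (d * b)⁆ = 1 := by
      rw [← hsum]
      exact commutatorElement_eq_one_iff_commute.mpr (hQ _ (P.mul_mem ha hx))
    have hTS : g * (⁅a, b⁆ * (d * b)) * g⁻¹ = ⁅a, b⁆ * ((g * d * g⁻¹) * (g * b * g⁻¹)) := by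
      calc g * (⁅a, b⁆ * (d * b)) * g⁻¹ = (g * ⁅a, b⁆) * (d * b) * g⁻¹ := by group
        _ = (⁅a, b⁆ * g) * (d * b) * g⁻¹ := by rw [(hSc _ hS g).eq]
        _ = _ := by group
    have hr : ∀ u, ⁅u, ⁅a, b⁆ * (d * b)⁆ = ⁅u, d * b⁆ := fun u => by
      rw [← commutatorElement_inv, comm_scalar_mul_left hSc hS, commutatorElement_inv]
    rw [hTS, comm_scalar_mul_left hSc hS, hr,
      comm_mul_left hSc hP (hT b hbP) (P.mul_mem hdP hbP),
      comm_mul_right hSc hP (hT d hdP) hbP, comm_mul_right hSc hP (hT b hbP) hbP,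
      commutatorElement_eq_one_iff_commute.mpr (hQ a ha),
      commutatorElement_eq_one_iff_commute.mpr (hQ x hx), one_mul, mul_one] at h1
    have h2 : ⁅g * d * g⁻¹, b⁆ = ⁅d, g * b * g⁻¹⁆ := by
      rw [← commutatorElement_inv (g * b * g⁻¹) d]
      exact eq_inv_of_mul_eq_one_left h1
    have h3 : ⁅g * d * g⁻¹, b⁆ = ⁅d, g⁻¹ * b * g⁆ := by
      rw [← conj_comm hSc (g := g) (hP d hdP _ (hT' b hbP))]
      congr 1
      group
    rw [hw, comm_mul_right hSc hP hdP (P.inv_mem (hT' b hbP)), comm_inv_right hSc hP hdP (hT' b hbP),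
      ← h2, ← h3, mul_inv_cancel]
  -- `w` is fixed modulo `S`
  have hwfix : ∀ a ∈ P, ⁅a, g⁻¹ * w * g⁆ = ⁅a, w⁆ := by
    intro a ha
    have e : ⁅g, a⁆ * a = g * a * g⁻¹ := by simp only [commutatorElement_def]; group
    have h1 : ⁅g * a * g⁻¹, w⁆ = ⁅a, w⁆ := by
      rw [← e, comm_mul_left hSc hP ha hwP, horth a ha, one_mul]
    rw [← h1, ← conj_comm hSc (g := g) (hP a ha _ (hT' w hwP))]
    congr 1
    group
  have hwS : g⁻¹ * w * g * w⁻¹ ∈ S := by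
    refine hnd _ (P.mul_mem (hT' w hwP) (P.inv_mem hwP)) (fun a ha => ?_)
    rw [comm_mul_right hSc hP ha (P.inv_mem hwP), comm_inv_right hSc hP ha hwP, hwfix a ha,
      mul_inv_cancel]
  have hwS' : ⁅g, w⁆ ∈ S := by
    have e : ⁅g, w⁆ = g * (g⁻¹ * w * g * w⁻¹)⁻¹ * g⁻¹ := by simp only [commutatorElement_def]; group
    rw [e, ← (hSc _ (S.inv_mem hwS) g).eq, mul_inv_cancel_right]
    exact S.inv_mem hwS
  have hgw : Commute g w := hfix w hwP hwS'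
  -- `w` is a commutator up to `S`
  set a := b * (g⁻¹ * b * g) with hadef
  have haP : a ∈ P := P.mul_mem hbP (hT' b hbP)
  have hDa : ∃ s ∈ S, ⁅g, a⁆ = s * w := by
    have hs := hP b hbP _ (P.inv_mem (hT' b hbP))
    refine ⟨⁅b, (g⁻¹ * b * g)⁻¹⁆, hs, ?_⟩
    have e : ⁅g, b * (g⁻¹ * b * g)⁆
        = (g * b * g⁻¹) * (⁅b, (g⁻¹ * b * g)⁻¹⁆ * (g⁻¹ * b * g)⁻¹) := by
      simp only [commutatorElement_def]; group
    rw [hadef, hw, e, ← mul_assoc, ← (hSc _ hs (g * b * g⁻¹)).eq, mul_assoc]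
  obtain ⟨s, hs, hsa⟩ := hDa
  have hgs : Commute g ⁅g, a⁆ := by
    rw [hsa]
    exact (hSc s hs g).symm.mul_right hgw
  by_cases hwin : ⁅g, a⁆ ∈ S
  swap
  · exact hcon a haP hwin hgs
  -- otherwise `g²` fixes `b` modulo `S`
  have hw' : w ∈ S := by
    have := S.mul_mem (S.inv_mem hs) hwin
    rwa [hsa, inv_mul_cancel_left] at this
  have hsq : ⁅g ^ 2, b⁆ ∈ S := by
    have hgbg : ⁅g ^ 2, b⁆ = g * w * g⁻¹ := by
      simp only [hw, commutatorElement_def, pow_two]; group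
    rw [hgbg, ← (hSc _ hw' g).eq, mul_inv_cancel_right]
    exact hw'
  have hpow : ∀ k : ℕ, ⁅(g ^ 2) ^ k, b⁆ ∈ S := by
    intro k
    induction k with
    | zero => simp
    | succ k ih =>
      have e : ⁅(g ^ 2) ^ (k + 1), b⁆ = (g ^ 2 * ⁅(g ^ 2) ^ k, b⁆ * (g ^ 2)⁻¹) * ⁅g ^ 2, b⁆ := by
        simp only [commutatorElement_def, pow_succ' (g ^ 2) k]; group
      rw [e, ← (hSc _ ih (g ^ 2)).eq, mul_inv_cancel_right]
      exact S.mul_mem ih hsq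
  have hgb : ⁅g, b⁆ ∈ S := by
    have e : (g ^ 2) ^ (m + 1) = g := by
      rw [← pow_mul, show 2 * (m + 1) = (2 * m + 1) + 1 by ring, pow_succ, hgm, one_mul]
    have := hpow (m + 1)
    rwa [e] at this
  exact hcon x hx hxS (hfix b hbP hgb)

/-- If `g ^ k = 1` and `[g, a]` is fixed by `g` then `[g, a] ^ k = 1`. -/
theorem fixed_commutator_pow_eq_one {g a : G} (hga : Commute g ⁅g, a⁆) {k : ℕ} (hgk : g ^ k = 1) :
    ⁅g, a⁆ ^ k = 1 := by
  have hk : ∀ j : ℕ, g ^ j * a * (g ^ j)⁻¹ = ⁅g, a⁆ ^ j * a := by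
    intro j
    induction j with
    | zero => simp
    | succ j ih =>
      have h1 : g * ⁅g, a⁆ ^ j = ⁅g, a⁆ ^ j * g := (hga.pow_right j).eq
      calc g ^ (j + 1) * a * (g ^ (j + 1))⁻¹ = g * (g ^ j * a * (g ^ j)⁻¹) * g⁻¹ := by
            rw [pow_succ']; group
        _ = (g * ⁅g, a⁆ ^ j) * a * g⁻¹ := by rw [ih, ← mul_assoc g]
        _ = ⁅g, a⁆ ^ j * ⁅g, a⁆ * a := by
            rw [h1]
            generalize ⁅g, a⁆ ^ j = p
            simp only [commutatorElement_def]; group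
        _ = ⁅g, a⁆ ^ (j + 1) * a := by rw [pow_succ]
  have h := hk k
  rw [hgk, one_mul, inv_one, mul_one] at h
  exact mul_right_cancel (b := a) (by rw [← h, one_mul])

end Cfsg.Agent.ExtraspecialEigen
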