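import Mathlib

/-!
# Linear algebra for eigenspace bounds

Counting eigenspaces of an endomorphism `g` against an endomorphism `x` which shifts the eigenspaces of a
second endomorphism `y` commuting with `g`.
-/

namespace Cfsg.Agent.ExtraspecialEigen

open Module Finset

variable {F V : Type*} [Field F] [AddCommGroup V] [Module F V] [FiniteDimensional F V]

/-- The dimensions of independent subspaces of `U` sum to at most the dimension of `U`. -/
theorem sum_finrank_le_of_indep {ι : Type*} [Fintype ι] {p : ι → Submodule F V} (hp : iSupIndep p)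
    {U : Submodule F V} (hU : ∀ i, p i ≤ U) : ∑ i, finrank F (p i) ≤ finrank F U := by
  classical
  have hinj := hp.dfinsupp_lsum_injective
  let e : (Π₀ i, p i) ≃ₗ[F] (Π i, p i) := DFinsupp.linearEquivFunOnFintype
  calc ∑ i, finrank F (p i) = finrank F (Π i, p i) := (finrank_pi_fintype F).symm
    _ = finrank F (Π₀ i, p i) := e.symm.finrank_eq
    _ = finrank F (LinearMap.range
          (DFinsupp.lsum ℕ (M := fun i => ↥(p i)) fun i => (p i).subtype)) :=
        (LinearMap.finrank_range_of_inj hinj).symm
    _ ≤ finrank F U := by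
      apply Submodule.finrank_mono
      rw [← Submodule.iSup_eq_range_dfinsupp_lsum]
      exact iSup_le hU

/-- Eigenspaces for pairwise different eigenvalues have dimensions summing to at most `finrank V`. -/
theorem sum_finrank_eigenspace_le {ι : Type*} [Fintype ι] (T : Module.End F V) {μ : ι → F}
    (hμ : Function.Injective μ) : ∑ i, finrank F (T.eigenspace (μ i)) ≤ finrank F V := by
  have h := (T.eigenspaces_iSupIndep).comp hμ
  have h2 := sum_finrank_le_of_indep h (U := ⊤) (fun i => le_top)
  rwa [finrank_top] at h2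

/-- Joint eigenspaces for pairwise different pairs of eigenvalues. -/
theorem sum_finrank_joint_le {α β : Type*} [Fintype α] [Fintype β] (g y : Module.End F V)
    {μ : α → F} {ν : β → F} (hμ : Function.Injective μ) (hν : Function.Injective ν) :
    ∑ q : α × β, finrank F ↥(y.eigenspace (μ q.1) ⊓ g.eigenspace (ν q.2)) ≤ finrank F V := by
  classical
  rw [Fintype.sum_prod_type]
  refine le_trans (Finset.sum_le_sum (fun i _ => ?_)) (sum_finrank_eigenspace_le y hμ)
  refine sum_finrank_le_of_indep ?_ (fun j => inf_le_left)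
  exact iSupIndep.mono ((g.eigenspaces_iSupIndep).comp hν) (fun j => inf_le_right)

/-- If `g x = s • x g` with `x` injective and `s ≠ 1`, a non-zero eigenvalue has eigenspace of dimension
at most half. -/
theorem two_mul_finrank_le_of_shift (g x : Module.End F V) (hx : Function.Injective x) {s : F}
    (hs : s ≠ 1) (hgx : ∀ v, g (x v) = s • x (g v)) {c : F} (hc : c ≠ 0) :
    2 * finrank F (g.eigenspace c) ≤ finrank F V := by
  have hne : s * c ≠ c := fun h => hs (mul_right_cancel₀ hc (by rw [h, one_mul]))
  have hmap : (g.eigenspace c).map x ≤ g.eigenspace (s * c) := by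
    rintro _ ⟨v, hv, rfl⟩
    rw [SetLike.mem_coe, Module.End.mem_eigenspace_iff] at hv
    rw [Module.End.mem_eigenspace_iff, hgx, hv, map_smul, smul_smul]
  have h1 : finrank F (g.eigenspace c) ≤ finrank F (g.eigenspace (s * c)) := by
    rw [(Submodule.equivMapOfInjective x hx (g.eigenspace c)).finrank_eq]
    exact Submodule.finrank_mono hmap
  have hinj : Function.Injective ![c, s * c] := by
    intro i j hij
    fin_cases i <;> fin_cases j <;> simp_all
  have h2 := sum_finrank_eigenspace_le g hinj
  rw [Fin.sum_univ_two] at h2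
  have h2' : finrank F (g.eigenspace c) + finrank F (g.eigenspace (s * c)) ≤ finrank F V := h2
  omega

/-- If conjugation by `u` multiplies `y` by a primitive `r`-th root of unity, every non-zero eigenvalue
of `y` has eigenspace of dimension at most a `1 / r` part. -/
theorem mul_finrank_le_of_shift (y u : Module.End F V) (hu : Function.Injective u) {s : F} {r : ℕ}
    (hs : IsPrimitiveRoot s r) (hyu : ∀ v, y (u v) = s • u (y v)) {c : F} (hc : c ≠ 0) :
    r * finrank F (y.eigenspace c) ≤ finrank F V := by
  classical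
  have hpow : ∀ (k : ℕ) (v : V), y v = c • v → y ((u ^ k) v) = (s ^ k * c) • (u ^ k) v := by
    intro k
    induction k with
    | zero => intro v hv; simpa using hv
    | succ k ih =>
      intro v hv
      rw [pow_succ', Module.End.mul_apply, hyu, ih v hv, map_smul, smul_smul, pow_succ']
      congr 1
      ring
  have hinj : Function.Injective (fun k : Fin r => s ^ (k : ℕ) * c) := by
    intro i j hij
    exact Fin.ext (hs.pow_inj i.2 j.2 (mul_right_cancel₀ hc hij))
  have hle : ∀ k : Fin r,
      finrank F (y.eigenspace c) ≤ finrank F (y.eigenspace (s ^ (k : ℕ) * c)) := by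
    intro k
    have hk : Function.Injective (u ^ (k : ℕ) : Module.End F V) := by
      rw [Module.End.coe_pow]
      exact hu.iterate _
    rw [(Submodule.equivMapOfInjective _ hk (y.eigenspace c)).finrank_eq]
    refine Submodule.finrank_mono ?_
    rintro _ ⟨v, hv, rfl⟩
    rw [SetLike.mem_coe, Module.End.mem_eigenspace_iff] at hv
    rw [Module.End.mem_eigenspace_iff]
    exact hpow _ v hv
  calc r * finrank F (y.eigenspace c) = ∑ _k : Fin r, finrank F (y.eigenspace c) := by simp
    _ ≤ ∑ k : Fin r, finrank F (y.eigenspace (s ^ (k : ℕ) * c)) := Finset.sum_le_sum (fun k _ => hle k)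
    _ ≤ finrank F V := sum_finrank_eigenspace_le y hinj

omit [FiniteDimensional F V] in
/-- A vector fixed by two operators which commute up to a scalar other than 1 must be zero. -/
theorem eq_zero_of_common_fixed (y y' : Module.End F V) {s : F} (hs : s ≠ 1)
    (h : ∀ v, y' (y v) = s • y (y' v)) {v : V} (h1 : y v = v) (h2 : y' v = v) : v = 0 := by
  have h3 := h v
  rw [h1, h2, h1] at h3
  have h4 : (s - 1) • v = 0 := by rw [sub_smul, one_smul, ← h3, sub_self]
  rcases smul_eq_zero.mp h4 with h5 | h5
  · exact absurd (sub_eq_zero.mp h5) hs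
  · exact h5

section counting

variable {r : ℕ} [Fact r.Prime] {ω : ZMod r → F}

private theorem card_fibre_le_two (b : ZMod r) (hb : b ≠ 0) (h2 : (2 : ZMod r) ≠ 0) (q : ZMod r × ZMod r) :
    #({p : ZMod r × ZMod r | (p.1 + b * p.2, (2 : ZMod r)⁻¹ * (2 * p.1 * p.2 + b * p.2 * (p.2 + 1))) = q}
        : Finset (ZMod r × ZMod r)) ≤ 2 := by
  classical
  obtain ⟨η, e⟩ := q
  rcases Finset.eq_empty_or_nonempty
      ({p : ZMod r × ZMod r | (p.1 + b * p.2, (2 : ZMod r)⁻¹ * (2 * p.1 * p.2 + b * p.2 * (p.2 + 1))) = (η, e)}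
        : Finset (ZMod r × ZMod r)) with h0 | ⟨⟨i₀, k₀⟩, h0⟩
  · rw [h0]; simp
  · rw [Finset.mem_filter, Prod.mk.injEq] at h0
    obtain ⟨-, hi0, he0⟩ := h0
    refine le_trans (Finset.card_le_card (t := {(i₀, k₀),
      (η - b * ((2 * η + b) * b⁻¹ - k₀), (2 * η + b) * b⁻¹ - k₀)}) ?_) Finset.card_le_two
    rintro ⟨i, k⟩ hp
    rw [Finset.mem_filter, Prod.mk.injEq] at hp
    obtain ⟨-, hi, he⟩ := hp
    have hE : 2 * i * k + b * k * (k + 1) = 2 * i₀ * k₀ + b * k₀ * (k₀ + 1) :=
      mul_left_cancel₀ (inv_ne_zero h2) (he.trans he0.symm)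
    have hi' : i = η - b * k := by rw [← hi]; ring
    have hi0' : i₀ = η - b * k₀ := by rw [← hi0]; ring
    have hprod : (k - k₀) * (2 * η + b - b * (k + k₀)) = 0 := by
      rw [hi', hi0'] at hE
      linear_combination hE
    rw [Finset.mem_insert, Finset.mem_singleton]
    rcases mul_eq_zero.mp hprod with h | h
    · left
      have hk : k = k₀ := sub_eq_zero.mp h
      rw [hi', hi0', hk]
    · right
      have hk : k = (2 * η + b) * b⁻¹ - k₀ := by
        field_simp
        linear_combination -h
      rw [hi', hk]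

set_option maxHeartbeats 1000000 in
/-- `g` conjugates `x` to `y * x`, fixes `y`, and `x` shifts the eigenvalues of `y`: then every eigenspace
of `g` has dimension at most a `2 / r` part. -/
theorem mul_finrank_le_of_unipotent (g x y : Module.End F V) (hx : Function.Injective x)
    (hrF : (r : F) ≠ 0) (hr2 : r ≠ 2)
    {ζ : F} (hζ : IsPrimitiveRoot ζ r) (hyr : y ^ r = 1) (hgy : ∀ v, g (y v) = y (g v))
    (hgx : ∀ v, g (x v) = y (x (g v))) {s : F} (hs : s ^ r = 1) (hyx : ∀ v, y (x v) = s • x (y v))
    {c : F} (hc : c ≠ 0) (hfix : r * finrank F (y.eigenspace 1) ≤ finrank F V) :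
    r * finrank F (g.eigenspace c) ≤ 2 * finrank F V := by
  classical
  have hr : r.Prime := Fact.out
  have h2 : (2 : ZMod r) ≠ 0 := by
    intro h
    have h' : ((2 : ℕ) : ZMod r) = 0 := by exact_mod_cast h
    rw [ZMod.natCast_eq_zero_iff] at h'
    exact hr2 ((Nat.prime_dvd_prime_iff_eq hr Nat.prime_two).mp h')
  let ψ : AddChar (ZMod r) F := AddChar.zmodChar r hζ.pow_eq_one
  have hψinj : Function.Injective ψ := by
    intro a a' h
    rw [AddChar.zmodChar_apply, AddChar.zmodChar_apply] at h
    exact ZMod.val_injective r (hζ.pow_inj (ZMod.val_lt a) (ZMod.val_lt a') h)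
  obtain ⟨b, hb⟩ : ∃ b : ZMod r, ψ b = s := by
    obtain ⟨i, -, hi⟩ := hζ.eq_pow_of_pow_eq_one hs
    exact ⟨i, by rw [AddChar.zmodChar_apply']; exact hi⟩
  -- the projections to the eigenspaces of `y`
  let P : ZMod r → Module.End F V := fun i => (r : F)⁻¹ • ∑ j : ZMod r, ψ (-(i * j)) • y ^ j.val
  have hymul : ∀ j : ZMod r, y * y ^ j.val = y ^ (j + 1).val := by
    intro j
    rw [← pow_succ', ZMod.val_add, ZMod.val_one r]
    conv_lhs => rw [← Nat.mod_add_div (j.val + 1) r, pow_add, pow_mul, hyr, one_pow, mul_one]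
  have hPy : ∀ i, y * P i = ψ i • P i := by
    intro i
    simp only [P, mul_smul_comm, Finset.mul_sum, hymul]
    rw [smul_comm]
    congr 1
    rw [Finset.smul_sum]
    refine Fintype.sum_equiv (Equiv.addRight (1 : ZMod r)) _ _ (fun j => ?_)
    simp only [Equiv.coe_addRight, smul_smul, ← AddChar.map_add_eq_mul]
    congr 2
    ring
  have hPsum : ∑ i, P i = 1 := by
    simp only [P]
    rw [← Finset.smul_sum, Finset.sum_comm]
    simp only [← Finset.sum_smul]
    have hprim : ψ.IsPrimitive := AddChar.zmodChar_primitive_of_primitive_root r hζ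
    have hsum : ∀ j : ZMod r, (∑ i : ZMod r, ψ (-(i * j))) = if j = 0 then (r : F) else 0 := by
      intro j
      have := AddChar.sum_mulShift (R := ZMod r) (-j) hprim
      simpa [ZMod.card, neg_eq_zero, mul_neg] using this
    simp only [hsum, ite_smul, zero_smul, Finset.sum_ite_eq', Finset.mem_univ, if_true,
      ZMod.val_zero, pow_zero, smul_smul, inv_mul_cancel₀ hrF, one_smul]
  have hPg : ∀ i v, g (P i v) = P i (g v) := by
    intro i v
    have hyk : ∀ (k : ℕ) w, g ((y ^ k) w) = (y ^ k) (g w) := by
      intro k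
      induction k with
      | zero => intro w; simp
      | succ k ih => intro w; rw [pow_succ', Module.End.mul_apply, Module.End.mul_apply, hgy, ih]
    simp only [P, LinearMap.smul_apply, LinearMap.sum_apply, map_smul, map_sum, hyk]
  -- the pieces of the eigenspace
  let W : ZMod r → Submodule F V := fun i => y.eigenspace (ψ i) ⊓ g.eigenspace c
  have hPW : ∀ i, ∀ v ∈ g.eigenspace c, P i v ∈ W i := by
    intro i v hv
    rw [Module.End.mem_eigenspace_iff] at hv
    refine Submodule.mem_inf.mpr ⟨?_, ?_⟩
    · rw [Module.End.mem_eigenspace_iff]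
      have := congrArg (fun T : Module.End F V => T v) (hPy i)
      simpa using this
    · rw [Module.End.mem_eigenspace_iff, hPg, hv, map_smul]
  have hdW : finrank F (g.eigenspace c) ≤ ∑ i, finrank F (W i) := by
    let f : g.eigenspace c →ₗ[F] Π i, W i :=
      LinearMap.pi fun i => LinearMap.codRestrict (W i)
        ((P i : V →ₗ[F] V).comp (g.eigenspace c).subtype) (fun v => hPW i v v.2)
    have hf : Function.Injective f := by
      rw [← LinearMap.ker_eq_bot, Submodule.eq_bot_iff]
      intro v hv
      rw [LinearMap.mem_ker] at hv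
      apply Subtype.ext
      have hz : ∀ i, P i (v : V) = 0 := fun i => congrArg Subtype.val (congrFun hv i)
      have h1 := congrArg (fun T : Module.End F V => T (v : V)) hPsum
      simp only [LinearMap.sum_apply, hz, Finset.sum_const_zero, Module.End.one_apply] at h1
      exact h1.symm
    calc finrank F (g.eigenspace c) ≤ finrank F (Π i, W i) := LinearMap.finrank_le_finrank_of_injective hf
      _ = ∑ i, finrank F (W i) := finrank_pi_fintype F
  -- the translates
  let φ : ZMod r × ZMod r → ZMod r × ZMod r := fun p =>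
    (p.1 + b * p.2, (2 : ZMod r)⁻¹ * (2 * p.1 * p.2 + b * p.2 * (p.2 + 1)))
  let J : ZMod r × ZMod r → Submodule F V := fun q =>
    y.eigenspace (ψ q.1) ⊓ g.eigenspace (c * ψ q.2)
  have hstep : ∀ (k : ℕ) (i : ZMod r), ∀ v ∈ W i, (x ^ k) v ∈ J (φ (i, (k : ZMod r))) := by
    intro k
    induction k with
    | zero =>
      intro i v hv
      simpa [φ, J, W] using hv
    | succ k ih =>
      intro i v hv
      have h := Submodule.mem_inf.mp (ih i v hv)
      rw [Module.End.mem_eigenspace_iff, Module.End.mem_eigenspace_iff] at h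
      refine Submodule.mem_inf.mpr ⟨?_, ?_⟩ <;>
        rw [Module.End.mem_eigenspace_iff, pow_succ', Module.End.mul_apply]
      · rw [hyx, h.1, map_smul, smul_smul, ← hb, ← AddChar.map_add_eq_mul]
        congr 2
        simp only [φ]
        push_cast
        ring
      · rw [hgx, h.2, map_smul, map_smul, hyx, h.1, map_smul, smul_smul, smul_smul, ← hb]
        simp only [mul_assoc, ← AddChar.map_add_eq_mul]
        congr 2
        congr 1
        simp only [φ]
        field_simp
        push_cast
        ring
  have hle : ∀ p : ZMod r × ZMod r, finrank F (W p.1) ≤ finrank F (J (φ p)) := by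
    intro p
    have hk : Function.Injective (x ^ p.2.val : Module.End F V) := by
      rw [Module.End.coe_pow]
      exact hx.iterate _
    rw [(Submodule.equivMapOfInjective _ hk (W p.1)).finrank_eq]
    refine Submodule.finrank_mono ?_
    rintro _ ⟨v, hv, rfl⟩
    have := hstep p.2.val p.1 v hv
    rwa [ZMod.natCast_zmod_val] at this
  have hJ : ∑ q, finrank F (J q) ≤ finrank F V :=
    sum_finrank_joint_le g y (μ := fun a : ZMod r => ψ a) (ν := fun a : ZMod r => c * ψ a) hψinj
      (fun a a' h => hψinj (mul_left_cancel₀ hc h))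
  have hsumW : ∀ S : Finset (ZMod r), r * ∑ i ∈ S, finrank F (W i)
      = ∑ p ∈ S ×ˢ (Finset.univ : Finset (ZMod r)), finrank F (W p.1) := by
    intro S
    rw [Finset.sum_product, Finset.mul_sum]
    refine Finset.sum_congr rfl (fun i _ => ?_)
    show r * finrank F (W i) = ∑ _k : ZMod r, finrank F (W i)
    rw [Finset.sum_const, Finset.card_univ, ZMod.card, smul_eq_mul]
  by_cases hb0 : b = 0
  · -- `x` and `y` commute
    have h0 : finrank F (W 0) ≤ finrank F (y.eigenspace 1) := by
      refine Submodule.finrank_mono (le_trans inf_le_left ?_)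
      rw [AddChar.map_zero_eq_one]
    have hrest : r * ∑ i ∈ Finset.univ.erase 0, finrank F (W i) ≤ finrank F V := by
      rw [hsumW]
      refine le_trans (le_trans (Finset.sum_le_sum (fun p _ => hle p)) ?_) hJ
      rw [← Finset.sum_image (g := φ) (f := fun q => finrank F (J q))]
      · exact Finset.sum_le_sum_of_subset (Finset.subset_univ _)
      · rintro ⟨i, k⟩ hp ⟨i', k'⟩ hp' h
        rw [Finset.mem_coe, Finset.mem_product, Finset.mem_erase] at hp hp'
        simp only [φ, hb0, zero_mul, add_zero, Prod.mk.injEq] at h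
        obtain ⟨rfl, h'⟩ := h
        have := mul_left_cancel₀ (inv_ne_zero h2) h'
        rw [Prod.mk.injEq]
        exact ⟨rfl, mul_left_cancel₀ (mul_ne_zero h2 hp.1.1) this⟩
    have hsplit : finrank F (W 0) + ∑ i ∈ Finset.univ.erase 0, finrank F (W i) = ∑ i, finrank F (W i) :=
      Finset.add_sum_erase _ (fun i => finrank F (W i)) (Finset.mem_univ 0)
    have h1 : r * finrank F (g.eigenspace c)
        ≤ r * finrank F (W 0) + r * ∑ i ∈ Finset.univ.erase 0, finrank F (W i) := by
      rw [← mul_add, hsplit]
      exact Nat.mul_le_mul_left r hdW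
    have h2' : r * finrank F (W 0) ≤ finrank F V := le_trans (Nat.mul_le_mul_left r h0) hfix
    omega
  · refine le_trans (Nat.mul_le_mul_left r hdW) ?_
    rw [hsumW, Finset.univ_product_univ]
    refine le_trans (Finset.sum_le_sum (fun p _ => hle p)) ?_
    rw [← Finset.sum_fiberwise Finset.univ φ]
    refine le_trans (Finset.sum_le_sum (fun q _ => ?_))
      (show ∑ q, 2 * finrank F (J q) ≤ 2 * finrank F V by
        rw [← Finset.mul_sum]; exact Nat.mul_le_mul_left 2 hJ)
    rw [Finset.sum_congr rfl (fun p hp => by rw [(Finset.mem_filter.mp hp).2]), Finset.sum_const,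
      smul_eq_mul]
    exact Nat.mul_le_mul_right _ (card_fibre_le_two b hb0 h2 q)

end counting

end Cfsg.Agent.ExtraspecialEigen
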