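import Cfsg.Prelude.Def_GeometricClasses
import Cfsg.Agent.ExtraspecialEigen.Linear
import Cfsg.Agent.ExtraspecialEigen.Algebra

/-!
# Eigenspaces of elements normalising an absolutely irreducible extraspecial group
-/

namespace Cfsg.Agent.ExtraspecialEigen

open Module Matrix
open scoped commutatorElement
open Cfsg.Geo

variable {F : Type*} [Field F] {n : ℕ}

local notation "GLn" => Matrix.GeneralLinearGroup (Fin n) F

/-- The endomorphism given by an invertible matrix. -/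
noncomputable def toEnd (g : GLn) : Module.End F (Fin n → F) :=
  Matrix.toLin' (g : Matrix (Fin n) (Fin n) F)

theorem toEnd_apply (g : GLn) (v : Fin n → F) : toEnd g v = (g : Matrix (Fin n) (Fin n) F) *ᵥ v := rfl

theorem toEnd_mul (g h : GLn) (v : Fin n → F) : toEnd (g * h) v = toEnd g (toEnd h v) := by
  rw [toEnd_apply, toEnd_apply, toEnd_apply, Matrix.mulVec_mulVec, Units.val_mul]

theorem toEnd_one : toEnd (1 : GLn) = 1 := by
  refine LinearMap.ext fun v => ?_
  rw [toEnd_apply, Units.val_one, Matrix.one_mulVec, Module.End.one_apply]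

theorem toEnd_pow (g : GLn) (k : ℕ) : toEnd (g ^ k) = toEnd g ^ k := by
  induction k with
  | zero => rw [pow_zero, pow_zero, toEnd_one]
  | succ k ih =>
    refine LinearMap.ext fun v => ?_
    rw [pow_succ, pow_succ, toEnd_mul, ih, Module.End.mul_apply]

theorem toEnd_injective (g : GLn) : Function.Injective (toEnd g) := fun v w h => by
  have := congrArg (toEnd g⁻¹) h
  rwa [← toEnd_mul, ← toEnd_mul, inv_mul_cancel, toEnd_one] at this

theorem toEnd_scalar {s : GLn} {a : Fˣ} (hs : (s : Matrix (Fin n) (Fin n) F) = (a : F) • 1)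
    (v : Fin n → F) : toEnd s v = (a : F) • v := by
  rw [toEnd_apply, hs, Matrix.smul_mulVec, Matrix.one_mulVec]

theorem scalars_central {s : GLn} (hs : s ∈ scalars (Fin n) F) (x : GLn) : Commute s x := by
  obtain ⟨a, ha⟩ := (mem_scalars_iff s).mp hs
  apply Units.ext
  rw [Units.val_mul, Units.val_mul, ha, Matrix.smul_mul, Matrix.mul_smul, Matrix.one_mul,
    Matrix.mul_one]

/-- A relation `x * y = s * (y * x)` with `s` scalar, as a relation between endomorphisms. -/
theorem toEnd_twist {x y s : GLn} {a : Fˣ} (hs : (s : Matrix (Fin n) (Fin n) F) = (a : F) • 1)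
    (h : x * y = s * (y * x)) (v : Fin n → F) : toEnd x (toEnd y v) = (a : F) • toEnd y (toEnd x v) := by
  rw [← toEnd_mul, h, toEnd_mul, toEnd_scalar hs, toEnd_mul]

theorem val_ne_one {s : GLn} {a : Fˣ} (hs : (s : Matrix (Fin n) (Fin n) F) = (a : F) • 1) (h1 : s ≠ 1) :
    (a : F) ≠ 1 := fun ha => h1 (Units.ext (by rw [hs, ha, one_smul, Units.val_one]))

theorem val_pow_eq_one [NeZero n] {s : GLn} {a : Fˣ} {r : ℕ}
    (hs : (s : Matrix (Fin n) (Fin n) F) = (a : F) • 1) (h1 : s ^ r = 1) : (a : F) ^ r = 1 := by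
  have h := congrArg (fun u : GLn => (u : Matrix (Fin n) (Fin n) F) 0 0) h1
  simp only [Units.val_pow_eq_pow_val, hs, smul_pow, one_pow, Matrix.smul_apply, Units.val_one,
    Matrix.one_apply_eq, smul_eq_mul, mul_one] at h
  exact h

theorem det_twist {x y s : GLn} {a : Fˣ} (hs : (s : Matrix (Fin n) (Fin n) F) = (a : F) • 1)
    (h : x * y = s * (y * x)) : (a : F) ^ n = 1 := by
  have h' := congrArg (fun u : GLn => Matrix.det (u : Matrix (Fin n) (Fin n) F)) h
  simp only [Units.val_mul, hs, Matrix.det_mul, Matrix.det_smul, Matrix.det_one, mul_one,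
    Fintype.card_fin] at h'
  have hx := (Matrix.GeneralLinearGroup.det x).ne_zero
  have hy := (Matrix.GeneralLinearGroup.det y).ne_zero
  rw [Matrix.GeneralLinearGroup.val_det_apply] at hx hy
  refine mul_right_cancel₀ (mul_ne_zero hy hx) ?_
  rw [one_mul, ← h', mul_comm]

theorem eigenspace_bounds {r ϖ : ℕ} (R : Subgroup GLn) (hr : r.Prime) (hR : IsPGroup r R)
    (hZ : Nat.card (Subgroup.center R) = r) (hext : commutator R = Subgroup.center R)
    (hexp : Monoid.exponent R = r ∨ Monoid.exponent R = 4)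
    (hirr : ActsAbsolutelyIrreducibly (matrixSet R)) (g : GLn)
    (hg : g ∈ subgroupNormalizer (R ⊔ scalars (Fin n) F)) (hϖ : ϖ.Prime) (hord : orderOf g = ϖ)
    (hns : g ∉ scalars (Fin n) F) (c : F) :
    (ϖ = 2 → 4 * finrank F (Module.End.eigenspace (toEnd g) c) ≤ 3 * n) ∧
    (ϖ = 3 → 3 * finrank F (Module.End.eigenspace (toEnd g) c) ≤ 2 * n) ∧
    (3 < ϖ → 2 * finrank F (Module.End.eigenspace (toEnd g) c) ≤ n) ∧
    (ϖ = 3 → ¬ 3 ∣ n → 2 * finrank F (Module.End.eigenspace (toEnd g) c) ≤ n) := by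
  classical
  have hV : finrank F (Fin n → F) = n := Module.finrank_fin_fun F
  set d := finrank F (Module.End.eigenspace (toEnd g) c) with hd
  suffices H : 2 * d ≤ n ∨ (ϖ = 2 ∧ 4 * d ≤ 3 * n) ∨ (ϖ = 3 ∧ 3 * d ≤ 2 * n ∧ 3 ∣ n) by
    rcases H with h | ⟨h, h'⟩ | ⟨h, h', h''⟩ <;>
      refine ⟨fun _ => by omega, fun _ => by omega, fun _ => by omega, fun _ h3 => ?_⟩
    · exact h
    · omega
    · exact absurd h'' h3
  rcases eq_or_ne c 0 with hc | hc
  · -- invertible elements have no kernel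
    refine Or.inl ?_
    have hbot : Module.End.eigenspace (toEnd g) c = ⊥ := by
      rw [Submodule.eq_bot_iff]
      intro v hv
      rw [Module.End.mem_eigenspace_iff, hc, zero_smul] at hv
      exact toEnd_injective g (by rw [hv, map_zero])
    rw [hd, hbot, finrank_bot]
    omega
  have hn0 : NeZero n := by
    refine ⟨fun h => ?_⟩
    subst h
    exact hns ((mem_scalars_iff g).mpr ⟨1, by ext i; exact i.elim0⟩)
  have hr_fact : Fact r.Prime := ⟨hr⟩
  set S := scalars (Fin n) F with hSdef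
  set P := R ⊔ S with hPdef
  have hSc : ∀ s ∈ S, ∀ x : GLn, Commute s x := fun s hs x => scalars_central hs x
  have hSn : S.Normal := ⟨fun s hs x => by rwa [← (hSc s hs x).eq, mul_inv_cancel_right]⟩
  have hgP : ∀ a, a ∈ P ↔ g * a * g⁻¹ ∈ P := fun a => Subgroup.mem_normalizer_iff.mp hg a
  have hgpow : g ^ ϖ = 1 := by rw [← hord]; exact pow_orderOf_eq_one g
  -- only scalars centralise `R`
  have hcent : ∀ M : GLn, (∀ x ∈ R, Commute M x) → M ∈ S := by
    intro M hM
    obtain ⟨a, ha⟩ := hirr.2 (M : Matrix (Fin n) (Fin n) F) (by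
      rintro _ ⟨x, hx, rfl⟩
      exact congrArg Units.val (hM x hx).eq)
    refine (mem_scalars_iff M).mpr ⟨Units.mk0 a ?_, ha⟩
    intro h0
    rw [h0, zero_smul] at ha
    exact M.ne_zero ha
  -- commutators of `R` are scalars of order dividing `r`
  have hcomR : ∀ x ∈ R, ∀ z ∈ R, ⁅x, z⁆ ∈ S ∧ ⁅x, z⁆ ^ r = 1 := by
    intro x hx z hz
    have hmem : (⁅(⟨x, hx⟩ : R), ⟨z, hz⟩⁆ : R) ∈ Subgroup.center R := by
      rw [← hext]
      exact Subgroup.commutator_mem_commutator (Subgroup.mem_top _) (Subgroup.mem_top _)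
    have hpow : (⟨_, hmem⟩ : Subgroup.center R) ^ r = 1 := by
      rw [← hZ]; exact pow_card_eq_one'
    refine ⟨hcent _ (fun w hw => ?_), ?_⟩
    · have := congrArg Subtype.val ((Subgroup.mem_center_iff.mp hmem) ⟨w, hw⟩)
      exact this.symm
    · exact congrArg (fun u : Subgroup.center R => ((u : R) : GLn)) hpow
  have hdec : ∀ x ∈ P, ∃ x₀ ∈ R, ∃ s ∈ S, x = s * x₀ := by
    intro x hx
    obtain ⟨x₀, hx₀, s, hs, rfl⟩ := Subgroup.mem_sup_of_normal_right.mp hx
    exact ⟨x₀, hx₀, s, hs, (hSc s hs x₀).eq.symm⟩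
  have hcom : ∀ x ∈ P, ∀ z ∈ P, ⁅x, z⁆ ∈ S ∧ ⁅x, z⁆ ^ r = 1 := by
    intro x hx z hz
    obtain ⟨x₀, hx₀, s, hs, rfl⟩ := hdec x hx
    obtain ⟨z₀, hz₀, t, ht, rfl⟩ := hdec z hz
    rw [comm_scalar_mul_left hSc hs, ← commutatorElement_inv, comm_scalar_mul_left hSc ht,
      commutatorElement_inv]
    exact hcomR x₀ hx₀ z₀ hz₀
  have hP2 : ∀ a ∈ P, ∀ b ∈ P, ⁅a, b⁆ ∈ S := fun a ha b hb => (hcom a ha b hb).1
  have hnd : ∀ a ∈ P, (∀ b ∈ P, ⁅b, a⁆ = 1) → a ∈ S := fun a _ h =>
    hcent a (fun x hx => (commutatorElement_eq_one_iff_commute.mp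
      (h x (Subgroup.mem_sup_left hx))).symm)
  -- a moved scalar
  by_cases hI : ∃ a ∈ P, ⁅g, a⁆ ∈ S ∧ ¬ Commute g a
  · obtain ⟨a, -, haS, hga⟩ := hI
    obtain ⟨α, hα⟩ := (mem_scalars_iff _).mp haS
    have hrel : g * a = ⁅g, a⁆ * (a * g) := by rw [commutatorElement_def]; group
    have := two_mul_finrank_le_of_shift (toEnd g) (toEnd a) (toEnd_injective a)
      (val_ne_one hα (fun h => hga (commutatorElement_eq_one_iff_commute.mp h)))
      (toEnd_twist hα hrel) hc
    exact Or.inl (by rw [hV] at this; exact this)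
  push Not at hI
  -- a non-scalar commutator
  obtain ⟨x, hxR, hxS⟩ : ∃ x ∈ R, ⁅g, x⁆ ∉ S := by
    by_contra hcon
    push Not at hcon
    exact hns (hcent g (fun x hx => hI x (Subgroup.mem_sup_left hx) (hcon x hx)))
  have hxP : x ∈ P := Subgroup.mem_sup_left hxR
  have hDmem : ∀ a ∈ P, ⁅g, a⁆ ∈ P := fun a ha => by
    rw [commutatorElement_def]
    exact P.mul_mem ((hgP a).mp ha) (P.inv_mem ha)
  -- the eigenspaces of a non-scalar element of `P`
  have hfixdim : ∀ y ∈ P, y ∉ S →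
      r * finrank F (Module.End.eigenspace (toEnd y) (1 : F)) ≤ n ∧ r ∣ n ∧ (r : F) ≠ 0
        ∧ ∃ ζ : F, IsPrimitiveRoot ζ r := by
    intro y hy hyS
    obtain ⟨u, huR, huy⟩ : ∃ u ∈ R, ¬ Commute u y := by
      by_contra hcon
      push Not at hcon
      exact hyS (hcent y (fun u hu => (hcon u hu).symm))
    obtain ⟨hS', hpow⟩ := hcom y hy u (Subgroup.mem_sup_left huR)
    obtain ⟨α, hα⟩ := (mem_scalars_iff _).mp hS'
    have hne : ⁅y, u⁆ ≠ 1 := fun h => huy (commutatorElement_eq_one_iff_commute.mp h).symm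
    have hrel : y * u = ⁅y, u⁆ * (u * y) := by rw [commutatorElement_def]; group
    have hprim : IsPrimitiveRoot (α : F) r := by
      have h := orderOf_eq_prime (val_pow_eq_one hα hpow) (val_ne_one hα hne)
      rw [← h]
      exact IsPrimitiveRoot.orderOf _
    refine ⟨?_, hprim.dvd_of_pow_eq_one n (det_twist hα hrel), (hprim.neZero').ne, _, hprim⟩
    have := mul_finrank_le_of_shift (toEnd y) (toEnd u) (toEnd_injective u) hprim (toEnd_twist hα hrel)
      (one_ne_zero (α := F))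
    rwa [hV] at this
  -- the fixed vectors of a commutator on an intersection of translates
  have hfixed : ∀ a : GLn, ∀ v ∈ Module.End.eigenspace (toEnd g) c
      ⊓ (Module.End.eigenspace (toEnd g) c).map (toEnd a),
      toEnd ⁅g, a⁆ v = v ∧ toEnd (g * ⁅g, a⁆ * g⁻¹) v = v := by
    intro a v hv
    obtain ⟨hv, w, hw, hwv⟩ := Submodule.mem_inf.mp hv
    rw [SetLike.mem_coe, Module.End.mem_eigenspace_iff] at hw
    rw [Module.End.mem_eigenspace_iff] at hv
    have hinv : toEnd g⁻¹ v = c⁻¹ • v := by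
      refine toEnd_injective g ?_
      rw [← toEnd_mul, mul_inv_cancel, toEnd_one, Module.End.one_apply, map_smul, hv, smul_smul,
        inv_mul_cancel₀ hc, one_smul]
    have hainv : toEnd a⁻¹ v = w := by
      rw [← hwv, ← toEnd_mul, inv_mul_cancel, toEnd_one, Module.End.one_apply]
    have hginvw : toEnd g⁻¹ w = c⁻¹ • w := by
      refine toEnd_injective g ?_
      rw [← toEnd_mul, mul_inv_cancel, toEnd_one, Module.End.one_apply, map_smul, hw, smul_smul,
        inv_mul_cancel₀ hc, one_smul]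
    have h1 : toEnd ⁅g, a⁆ v = v := by
      rw [commutatorElement_def, toEnd_mul, hainv, toEnd_mul, hginvw, map_smul, toEnd_mul, hwv, hv,
        smul_smul, inv_mul_cancel₀ hc, one_smul]
    refine ⟨h1, ?_⟩
    rw [toEnd_mul, hinv, map_smul, toEnd_mul, h1, hv, smul_smul, inv_mul_cancel₀ hc, one_smul]
  have hinter : ∀ a : GLn, 2 * d ≤ n + finrank F ↥(Module.End.eigenspace (toEnd g) c
      ⊓ (Module.End.eigenspace (toEnd g) c).map (toEnd a)) := by
    intro a
    have h1 := Submodule.finrank_sup_add_finrank_inf_eq (Module.End.eigenspace (toEnd g) c)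
      ((Module.End.eigenspace (toEnd g) c).map (toEnd a))
    have h2 := (Submodule.equivMapOfInjective (toEnd a) (toEnd_injective a)
      (Module.End.eigenspace (toEnd g) c)).finrank_eq
    have h3 := Submodule.finrank_le (Module.End.eigenspace (toEnd g) c
      ⊔ (Module.End.eigenspace (toEnd g) c).map (toEnd a))
    omega
  obtain ⟨hfx, hrn, hrF, ζ, hζ⟩ := hfixdim _ (hDmem x hxP) hxS
  have hgen : 2 * r * d ≤ (r + 1) * n := by
    have h1 := hinter x
    have h2 : finrank F ↥(Module.End.eigenspace (toEnd g) c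
        ⊓ (Module.End.eigenspace (toEnd g) c).map (toEnd x))
        ≤ finrank F (Module.End.eigenspace (toEnd ⁅g, x⁆) (1 : F)) := by
      refine Submodule.finrank_mono (fun v hv => ?_)
      rw [Module.End.mem_eigenspace_iff, one_smul]
      exact (hfixed x v hv).1
    nlinarith
  rcases eq_or_ne ϖ 2 with h2 | h2
  · refine Or.inr (Or.inl ⟨h2, ?_⟩)
    have := hr.two_le
    nlinarith
  obtain ⟨m, hm⟩ := hϖ.odd_of_ne_two h2
  by_cases hQ : ∃ a ∈ P, ¬ Commute (g * ⁅g, a⁆ * g⁻¹) ⁅g, a⁆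
  · -- the intersection is trivial
    obtain ⟨a, ha, hna⟩ := hQ
    obtain ⟨α, hα⟩ := (mem_scalars_iff _).mp
      (hP2 _ ((hgP _).mp (hDmem a ha)) _ (hDmem a ha))
    have hne := val_ne_one hα (fun h => hna (commutatorElement_eq_one_iff_commute.mp h))
    have hrel : g * ⁅g, a⁆ * g⁻¹ * ⁅g, a⁆
        = ⁅g * ⁅g, a⁆ * g⁻¹, ⁅g, a⁆⁆ * (⁅g, a⁆ * (g * ⁅g, a⁆ * g⁻¹)) := by
      simp only [commutatorElement_def]; group
    have h0 : finrank F ↥(Module.End.eigenspace (toEnd g) c
        ⊓ (Module.End.eigenspace (toEnd g) c).map (toEnd a)) = 0 := by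
      rw [Submodule.finrank_eq_zero, Submodule.eq_bot_iff]
      intro v hv
      exact eq_zero_of_common_fixed _ _ hne (toEnd_twist hα hrel) (hfixed a v hv).1 (hfixed a v hv).2
    have := hinter a
    exact Or.inl (by omega)
  push Not at hQ
  obtain ⟨a, haP, haS, hga⟩ := exists_fixed_commutator hSc hP2 hnd hgP
    (m := m) (by rw [← hm]; exact hgpow) hI hQ hxP hxS
  have hpowϖ : ⁅g, a⁆ ^ ϖ = 1 := fixed_commutator_pow_eq_one hga hgpow
  have hrϖ : r = ϖ := by
    by_contra hne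
    refine haS (hcent _ (fun b hb => commutatorElement_eq_one_iff_commute.mp ?_))
    have hbP : b ∈ P := Subgroup.mem_sup_left hb
    have h1 : ⁅⁅g, a⁆, b⁆ ^ ϖ = 1 := by
      rw [← comm_pow_left hSc hP2 (hDmem a haP) hbP, hpowϖ, commutatorElement_one_left]
    have h3 : orderOf ⁅⁅g, a⁆, b⁆ ∣ 1 := by
      have := Nat.dvd_gcd (orderOf_dvd_of_pow_eq_one h1)
        (orderOf_dvd_of_pow_eq_one (hcom _ (hDmem a haP) b hbP).2)
      rwa [Nat.Coprime.gcd_eq_one ((Nat.coprime_primes hϖ hr).mpr (Ne.symm hne))] at this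
    exact orderOf_eq_one_iff.mp (Nat.dvd_one.mp h3)
  subst hrϖ
  rcases eq_or_ne r 3 with h3 | h3
  · refine Or.inr (Or.inr ⟨h3, ?_, h3 ▸ hrn⟩)
    subst h3
    omega
  have hr5 : 4 ≤ r := by
    have := hr.two_le
    have h4 : r ≠ 4 := fun h => by rw [h] at hr; norm_num at hr
    omega
  -- replace `a` by an element of `R`
  obtain ⟨a₀, ha₀, s, hs, hae⟩ := hdec a haP
  have hDa : ⁅g, a⁆ = ⁅g, a₀⁆ := by
    rw [hae, ← commutatorElement_inv, comm_scalar_mul_left hSc hs, commutatorElement_inv]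
  rw [hDa] at haS hga hpowϖ
  have ha₀P : a₀ ∈ P := Subgroup.mem_sup_left ha₀
  obtain ⟨hS', hpow'⟩ := hcom _ (hDmem a₀ ha₀P) a₀ ha₀P
  obtain ⟨β, hβ⟩ := (mem_scalars_iff _).mp hS'
  have hrel : ⁅g, a₀⁆ * a₀ = ⁅⁅g, a₀⁆, a₀⁆ * (a₀ * ⁅g, a₀⁆) := by
    generalize ⁅g, a₀⁆ = y
    simp only [commutatorElement_def]; group
  have hrel2 : g * a₀ = ⁅g, a₀⁆ * (a₀ * g) := by rw [commutatorElement_def]; group
  obtain ⟨hfy, -, -, -⟩ := hfixdim _ (hDmem a₀ ha₀P) haS
  have := mul_finrank_le_of_unipotent (toEnd g) (toEnd a₀) (toEnd ⁅g, a₀⁆) (toEnd_injective a₀) hrF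
    (by omega) hζ (by rw [← toEnd_pow, hpowϖ, toEnd_one])
    (fun v => by rw [← toEnd_mul, ← toEnd_mul, hga.eq])
    (fun v => by rw [← toEnd_mul, hrel2, toEnd_mul, toEnd_mul])
    (val_pow_eq_one hβ hpow') (toEnd_twist hβ hrel) hc (by rw [hV]; exact hfy)
  rw [hV] at this
  refine Or.inl ?_
  nlinarith

end Cfsg.Agent.ExtraspecialEigen
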